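import Groth.Agent.AdjLin.K801.Stmt

/-!
# The base point freeness part of Reider's theorem for nef `L` with `L² > 4` and `L·C ≥ 2` through the point
-/

set_option autoImplicit false
universe u
open CategoryTheory CategoryTheory.Limits AlgebraicGeometry TopologicalSpace

namespace K621.ReiderNef

open Groth.Agent Groth.Agent.Grpsch.PicGrp K464.Base K464.Curves Groth.Agent.Dix.IdealModCartier

variable (k : Type u) [Field k] {X : Scheme.{u}} [X.Over (Spec (CommRingCat.of k))]
  [IsProper (X ↘ Spec (CommRingCat.of k))] [Smooth (X ↘ Spec (CommRingCat.of k))] [IsIntegral X]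

/-- A class which is nef and of degree at least `m` on all curves through `x` has degree at least `m` on every effective
Cartier divisor through `x`. -/
theorem le_degOn (hdim : topologicalKrullDim X = 2) {a : Pic X}
    (ha : ∀ C : X.IdealSheafData, IsCurve C → 0 ≤ degOn k X C a) (x : X) (m : ℤ)
    (hm : ∀ C : X.IdealSheafData, IsCurve C → x ∈ C.support → m ≤ degOn k X C a)
    {D : X.IdealSheafData} (hD : BlowUp.IsEffCartierIdeal D) (hx : x ∈ D.support) : m ≤ degOn k X D a := by
  have : IsNoetherian X := CurvesB.CurveRR.isNoetherian_of_proper k X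
  obtain ⟨C, hC, hle, hxC⟩ := K464.Comp.exists_curve_le (X ↘ Spec (CommRingCat.of k)) hdim hD x hx
  have hCe := isEff_of_isCurve k (X ↘ Spec (CommRingCat.of k)) hdim (fun x => S1535.result k X x) hC
  obtain ⟨F, hF, hmul⟩ := Divis.ColonIdeal.exists_mul_eq hCe hD hle
  rw [← hmul, K464.Comp.degOn_eff_mul k hdim.le hCe hF]
  have h1 := K464.Comp.degOn_nonneg_of_forall k hdim ha hF
  have h2 := hm C hC hxC
  linarith

end K621.ReiderNef
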